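import Groth.Agent.Neron.K491.PDefs
import Mathlib.RingTheory.MvPolynomial.Groebner
import Mathlib.RingTheory.MvPolynomial.MonomialOrder.DegLex
import Mathlib.Data.Nat.Choose.Lucas
import Mathlib.RingTheory.Polynomial.Basic

/-!
# Closed subgroups of `G_a ^ n` are kernels of systems of additive polynomials

The ideal of a closed subgroup of `G_a ^ n` (over a field of characteristic `p`) is generated by additive polynomials.
The proof is by division: a nonzero element of the ideal of minimal degree with respect to a monomial order, all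
whose monomials are not divisible by the leading monomial of an additive polynomial of the ideal, is additive (compare
the coefficients of `f (x ⊗ 1 + 1 ⊗ x)`).
-/

set_option autoImplicit false
universe u

open scoped TensorProduct

namespace K420.Ker
open K491.PDefs

section Alg

open MvPolynomial

lemma not_dvd_choose (p : ℕ) [Fact p.Prime] (m : ℕ) (hm : ¬ p ∣ m) (k : ℕ) :
    ¬ p ∣ Nat.choose (p ^ k * m) (p ^ k) := by
  induction k with
  | zero => simpa using hm
  | succ k ih =>
    have h := Choose.choose_modEq_choose_mod_mul_choose_div_nat (p := p) (n := p ^ (k + 1) * m) (k := p ^ (k + 1))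
    have hp : 0 < p := (Fact.out : p.Prime).pos
    have e1 : p ^ (k + 1) * m = p * (p ^ k * m) := by ring
    have e2 : p ^ (k + 1) = p * p ^ k := by ring
    have e3 : (p * (p ^ k * m)) % p = 0 := Nat.mul_mod_right _ _
    have e4 : (p * (p ^ k * m)) / p = p ^ k * m := Nat.mul_div_cancel_left _ hp
    have e5 : (p * p ^ k) % p = 0 := Nat.mul_mod_right _ _
    have e6 : (p * p ^ k) / p = p ^ k := Nat.mul_div_cancel_left _ hp
    rw [e1, e2, e3, e4, e5, e6, Nat.choose_self, one_mul] at h
    rw [e1, e2]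
    intro hd
    exact ih ((h.dvd_iff dvd_rfl).mp hd)

/-- An exponent all whose proper multinomial coefficients vanish is `p ^ k • e_l`. -/
lemma exists_eq_single (p : ℕ) [Fact p.Prime] {n : ℕ} (c : Fin n →₀ ℕ) (hc : c ≠ 0)
    (h : ∀ b : Fin n →₀ ℕ, b ≤ c → b ≠ 0 → b ≠ c → p ∣ ∏ l, (c l).choose (b l)) :
    ∃ l k, c = Finsupp.single l (p ^ k) := by
  classical
  have hp : p.Prime := Fact.out
  obtain ⟨l, hl⟩ : ∃ l, c l ≠ 0 := by
    by_contra! H
    exact hc (Finsupp.ext H)
  have h1 : c = Finsupp.single l (c l) := by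
    by_contra hne
    have hd := h (Finsupp.single l (c l)) (by
      intro i
      rw [Finsupp.single_apply]
      split_ifs with hi
      · rw [hi]
      · exact Nat.zero_le _) (by simpa using hl) (fun h' => hne h'.symm)
    have : ∏ i, (c i).choose (Finsupp.single l (c l) i) = 1 := by
      refine Finset.prod_eq_one fun i _ => ?_
      rw [Finsupp.single_apply]
      split_ifs with hi
      · rw [hi, Nat.choose_self]
      · rw [Nat.choose_zero_right]
    rw [this] at hd
    exact hp.one_lt.ne' (Nat.dvd_one.mp hd)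
  obtain ⟨k, m, hm, hkm⟩ := Nat.exists_eq_pow_mul_and_not_dvd hl p hp.ne_one
  refine ⟨l, k, ?_⟩
  have hm1 : m = 1 := by
    by_contra hm1
    have hm0 : m ≠ 0 := fun h0 => hm (h0 ▸ dvd_zero p)
    have hpk : 0 < p ^ k := pow_pos hp.pos k
    have hle : p ^ k ≤ c l := by
      rw [hkm]
      exact Nat.le_mul_of_pos_right _ (Nat.pos_of_ne_zero hm0)
    have hd := h (Finsupp.single l (p ^ k)) (by
      intro i
      rw [Finsupp.single_apply]
      split_ifs with hi
      · rw [← hi]; exact hle
      · exact Nat.zero_le _) (by simp [hp.ne_zero]) (by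
        intro h'
        have h2 := congrArg (fun f => f l) h'
        simp only [Finsupp.single_eq_same] at h2
        rw [hkm] at h2
        exact hm1 (Nat.eq_of_mul_eq_mul_left hpk (by rw [← h2, mul_one])))
    have : ∏ i, (c i).choose (Finsupp.single l (p ^ k) i) = (p ^ k * m).choose (p ^ k) := by
      rw [Finset.prod_eq_single l]
      · rw [Finsupp.single_eq_same, hkm]
      · intro i _ hi
        rw [Finsupp.single_eq_of_ne hi, Nat.choose_zero_right]
      · simp
    rw [this] at hd
    exact not_dvd_choose p m hm k hd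
  rw [h1, hkm, hm1, mul_one]

variable {K : Type u} [Field K] (p : ℕ) {n : ℕ}

/-- The additive polynomial with given coefficients. -/
noncomputable def form (G : Fin n → (ℕ →₀ K)) : MvPolynomial (Fin n) K :=
  ∑ l, (G l).sum fun k a => C a * X l ^ p ^ k

lemma form_add (G G' : Fin n → (ℕ →₀ K)) : form p (G + G') = form p G + form p G' := by
  rw [form, form, form, ← Finset.sum_add_distrib]
  refine Finset.sum_congr rfl fun l _ => ?_
  rw [Pi.add_apply, Finsupp.sum_add_index']
  · intro k
    rw [map_zero, zero_mul]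
  · intro k a b
    rw [map_add, add_mul]

lemma form_zero : form p (0 : Fin n → (ℕ →₀ K)) = 0 := by
  have h := form_add p (0 : Fin n → (ℕ →₀ K)) 0
  rw [add_zero] at h
  exact left_eq_add.mp h

lemma monomial_eq_form (l : Fin n) (k : ℕ) (a : K) :
    ∃ G : Fin n → (ℕ →₀ K), monomial (Finsupp.single l (p ^ k)) a = form p G := by
  classical
  refine ⟨Pi.single l (Finsupp.single k a), ?_⟩
  rw [form, Finset.sum_eq_single l]
  · rw [Pi.single_eq_same, Finsupp.sum_single_index (by rw [map_zero, zero_mul]), X_pow_eq_monomial, C_mul_monomial,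
      mul_one]
  · intro i _ hi
    rw [Pi.single_eq_of_ne hi, Finsupp.sum_zero_index]
  · simp

lemma exists_form (f : MvPolynomial (Fin n) K) (hf : ∀ c ∈ f.support, ∃ l k, c = Finsupp.single l (p ^ k)) :
    ∃ G, f = form p G := by
  classical
  rw [f.as_sum]
  refine Finset.sum_induction (fun c => monomial c (coeff c f)) (fun g => ∃ G, g = form p G) ?_ ?_ ?_
  · rintro _ _ ⟨G, rfl⟩ ⟨G', rfl⟩
    exact ⟨G + G', (form_add p G G').symm⟩
  · exact ⟨0, (form_zero p).symm⟩
  · intro c hc
    obtain ⟨l, k, rfl⟩ := hf c hc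
    exact monomial_eq_form p l k _

lemma eval₂_form {A : Type*} [CommRing A] (ρ : K →+* A) {m : ℕ} (F : Fin m → Fin n → (ℕ →₀ K)) (j : Fin m)
    (y : Fin n → A) : eval₂Hom ρ y (form p (F j)) = addVal p ρ F j y := by
  rw [form, addVal, map_sum]
  refine Finset.sum_congr rfl fun l _ => ?_
  rw [Finsupp.sum, Finsupp.sum, map_sum]
  refine Finset.sum_congr rfl fun k _ => ?_
  simp

variable {p}

/-- The expansion of a monomial at `u + v`. -/
lemma prod_add_pow {B : Type*} [CommRing B] (c : Fin n → ℕ) (u v : Fin n → B) :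
    ∏ l, (u l + v l) ^ c l = ∑ q ∈ Fintype.piFinset (fun l => Finset.range (c l + 1)),
      (((∏ l, (c l).choose (q l) : ℕ) : B) * ((∏ l, u l ^ q l) * ∏ l, v l ^ (c l - q l))) := by
  classical
  simp_rw [add_pow]
  rw [Finset.prod_univ_sum]
  refine Finset.sum_congr rfl fun q _ => ?_
  rw [Finset.prod_mul_distrib, Finset.prod_mul_distrib, Nat.cast_prod, mul_comm]

variable {A : Type*} [CommRing A] [Algebra K A]

/-- Comultiplication followed by two functionals, on a monomial. -/
lemma expand (x : Fin n → A) (s t : A →ₗ[K] K) (c : Fin n →₀ ℕ) (r : K) :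
    (TensorProduct.lift ((LinearMap.mul K K).compl₁₂ s t))
      (aeval (fun l => x l ⊗ₜ[K] (1 : A) + (1 : A) ⊗ₜ[K] x l) (monomial c r)) =
    r * ∑ q ∈ Fintype.piFinset (fun l => Finset.range (c l + 1)),
      (((∏ l, (c l).choose (q l) : ℕ) : K) * (s (∏ l, x l ^ q l) * t (∏ l, x l ^ (c l - q l)))) := by
  classical
  rw [aeval_monomial, ← Algebra.smul_def, map_smul, smul_eq_mul]
  congr 1
  rw [Finsupp.prod_fintype _ _ (fun _ => pow_zero _), prod_add_pow, map_sum]
  refine Finset.sum_congr rfl fun q _ => ?_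
  have h1 : (∏ l, (x l ⊗ₜ[K] (1 : A)) ^ q l) = (∏ l, x l ^ q l) ⊗ₜ[K] (1 : A) := by
    have := map_prod (Algebra.TensorProduct.includeLeft : A →ₐ[K] A ⊗[K] A) (fun l => x l ^ q l) Finset.univ
    simp only [map_pow, Algebra.TensorProduct.includeLeft_apply] at this
    exact this.symm
  have h2 : (∏ l, ((1 : A) ⊗ₜ[K] x l) ^ (c l - q l)) = (1 : A) ⊗ₜ[K] (∏ l, x l ^ (c l - q l)) := by
    have := map_prod (Algebra.TensorProduct.includeRight : A →ₐ[K] A ⊗[K] A) (fun l => x l ^ (c l - q l)) Finset.univ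
    simp only [map_pow, Algebra.TensorProduct.includeRight_apply] at this
    exact this.symm
  rw [h1, h2, Algebra.TensorProduct.tmul_mul_tmul, one_mul, mul_one, ← nsmul_eq_mul, map_nsmul, nsmul_eq_mul]
  simp

lemma prod_eq_aeval (x : Fin n → A) (c : Fin n →₀ ℕ) : ∏ l, x l ^ c l = aeval x (monomial c (1 : K)) := by
  rw [aeval_monomial, map_one, one_mul, Finsupp.prod_fintype _ _ (fun _ => pow_zero _)]

open scoped MonomialOrder in
/-- The key step: an element of the ideal without monomial divisible by the leading monomial of an additive element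
of the ideal is zero. -/
theorem eq_zero_of_normal [Fact p.Prime] [CharP K p] (m : MonomialOrder (Fin n)) (x : Fin n → A)
    (h0 : ∀ f : MvPolynomial (Fin n) K, aeval x f = 0 → coeff 0 f = 0)
    (hΔ : ∀ f : MvPolynomial (Fin n) K, aeval x f = 0 →
      aeval (fun l => x l ⊗ₜ[K] (1 : A) + (1 : A) ⊗ₜ[K] x l) f = 0)
    (N : (Fin n →₀ ℕ) → Prop)
    (hN : ∀ c, N c ↔ ∀ G : Fin n → (ℕ →₀ K), aeval x (form p G) = 0 → form p G ≠ 0 → ¬ (m.degree (form p G) ≤ c)) :
    ∀ (r : MvPolynomial (Fin n) K), aeval x r = 0 → (∀ c ∈ r.support, N c) → r = 0 := by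
  classical
  have hNle : ∀ c c', N c → c' ≤ c → N c' := by
    intro c c' h hle
    rw [hN] at h ⊢
    exact fun G h1 h2 h3 => h G h1 h2 (h3.trans hle)
  suffices H : ∀ (d : m.syn) (r : MvPolynomial (Fin n) K), m.toSyn (m.degree r) = d → aeval x r = 0 →
      (∀ c ∈ r.support, N c) → r = 0 from fun r => H _ r rfl
  intro d
  induction d using WellFoundedLT.induction with
  | ind d IH =>
  intro r hd hr hn
  by_contra hr0
  have ha : m.degree r ∈ r.support := m.degree_mem_support hr0
  have hc0 : ∀ c ∈ r.support, c ≠ 0 := by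
    rintro c hc rfl
    exact mem_support_iff.mp hc (h0 r hr)
  let W : Submodule K (MvPolynomial (Fin n) K) := restrictSupport K {c | N c ∧ m.toSyn c < d}
  let g : W →ₗ[K] A := (aeval x).toLinearMap ∘ₗ W.subtype
  have hg : LinearMap.ker g = ⊥ := by
    rw [LinearMap.ker_eq_bot']
    rintro ⟨f, hf⟩ hgf
    have hgf' : aeval x f = 0 := hgf
    have hf' : ∀ c ∈ f.support, N c ∧ m.toSyn c < d := fun c hc => hf hc
    ext1
    by_contra hf0
    exact hf0 (IH _ (hf' _ (m.degree_mem_support hf0)).2 f rfl hgf' (fun c hc => (hf' c hc).1))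
  obtain ⟨s, hs⟩ := g.exists_leftInverse_of_injective hg
  let lam (b : Fin n →₀ ℕ) : A →ₗ[K] K := (lcoeff K b) ∘ₗ W.subtype ∘ₗ s
  have hlam : ∀ b c : Fin n →₀ ℕ, N c → m.toSyn c < d → lam b (∏ l, x l ^ c l) = if b = c then 1 else 0 := by
    intro b c hc hcd
    have hmem : monomial c (1 : K) ∈ W := (monomial_mem_restrictSupport (R := K)).mpr (Or.inl ⟨hc, hcd⟩)
    have h1 : s (∏ l, x l ^ c l) = ⟨monomial c (1 : K), hmem⟩ := by
      rw [prod_eq_aeval (K := K)]
      exact LinearMap.congr_fun hs ⟨monomial c (1 : K), hmem⟩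
    change coeff b (s (∏ l, x l ^ c l) : MvPolynomial (Fin n) K) = _
    rw [h1, coeff_monomial]
    simp only [eq_comm]
  have h0d : m.toSyn 0 < d := by
    rw [← hd]
    refine lt_of_le_of_ne (m.toSyn_monotone (zero_le (a := m.degree r))) fun h => ?_
    exact hc0 _ ha (m.toSyn.injective h).symm
  have hN0 : N 0 := hNle _ _ (hn _ ha) (zero_le (a := m.degree r))
  -- every monomial of `r` is `p ^ k • e_l`
  have key : ∀ c ∈ r.support, ∃ l k, c = Finsupp.single l (p ^ k) := by
    intro c hc
    refine exists_eq_single p c (hc0 c hc) fun b hb hb0 hbc => ?_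
    set b' := c - b with hb'
    have hbb : b + b' = c := by rw [hb', add_tsub_cancel_of_le hb]
    have hb'0 : b' ≠ 0 := by
      intro h
      rw [h, add_zero] at hbb
      exact hbc hbb
    have h1 := congrArg (TensorProduct.lift ((LinearMap.mul K K).compl₁₂ (lam b) (lam b'))) (hΔ r hr)
    rw [map_zero, r.as_sum, map_sum, map_sum] at h1
    have hterm : ∀ e ∈ r.support, ∀ q ∈ Fintype.piFinset (fun l => Finset.range (e l + 1)),
        lam b (∏ l, x l ^ q l) * lam b' (∏ l, x l ^ (e l - q l)) =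
          if b = Finsupp.equivFunOnFinite.symm q ∧ b' = e - Finsupp.equivFunOnFinite.symm q then 1 else 0 := by
      intro e he q hq
      set q' := Finsupp.equivFunOnFinite.symm q with hq'
      have hqq : ∀ l, q l = q' l := fun l => rfl
      have hle : q' ≤ e := fun l => Nat.lt_succ_iff.mp (Finset.mem_range.mp (Fintype.mem_piFinset.mp hq l))
      have hle' : e - q' ≤ e := tsub_le_self
      have hed : m.toSyn e ≤ d := by
        rw [← hd]
        exact m.le_degree he
      simp only [hqq]
      by_cases c1 : m.toSyn q' < d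
      · by_cases c2 : m.toSyn (e - q') < d
        · rw [hlam b q' (hNle _ _ (hn e he) hle) c1]
          have := hlam b' (e - q') (hNle _ _ (hn e he) hle') c2
          simp only [Finsupp.coe_tsub, Pi.sub_apply] at this
          rw [this]
          by_cases e1 : b = q' <;> by_cases e2 : b' = e - q' <;> simp [e1, e2]
        · -- `q' = 0`
          have h3 : m.toSyn (e - q') = m.toSyn e :=
            le_antisymm (m.toSyn_monotone hle') (hed.trans (not_lt.mp c2))
          have h4 : q' = 0 := by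
            have h5 := m.toSyn.injective h3
            have h6 : e - q' + q' = e := tsub_add_cancel_of_le hle
            rw [h5] at h6
            exact left_eq_add.mp h6.symm
          rw [h4]
          have h7 := hlam b 0 hN0 h0d
          rw [if_neg hb0] at h7
          rw [h7, zero_mul, if_neg (fun h => hb0 h.1)]
      · -- `q' = e`
        have h3 : m.toSyn q' = m.toSyn e :=
          le_antisymm (m.toSyn_monotone hle) (hed.trans (not_lt.mp c1))
        have h4 : q' = e := m.toSyn.injective h3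
        have h7 := hlam b' 0 hN0 h0d
        rw [if_neg hb'0] at h7
        have h8 : ∀ l, e l - q' l = (0 : Fin n →₀ ℕ) l := fun l => by rw [h4, Nat.sub_self]; rfl
        simp only [h8]
        rw [h7, mul_zero, if_neg]
        rintro ⟨-, h9⟩
        rw [h4, tsub_self] at h9
        exact hb'0 h9
    have hinner : ∀ e ∈ r.support, (∑ q ∈ Fintype.piFinset (fun l => Finset.range (e l + 1)),
        (((∏ l, (e l).choose (q l) : ℕ) : K) *
          (lam b (∏ l, x l ^ q l) * lam b' (∏ l, x l ^ (e l - q l))))) =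
        if e = c then ((∏ l, (c l).choose (b l) : ℕ) : K) else 0 := by
      intro e he
      rw [Finset.sum_congr rfl (fun q hq => by rw [hterm e he q hq])]
      split_ifs with hec
      · subst hec
        rw [Finset.sum_eq_single (b : Fin n → ℕ)]
        · have e1 : Finsupp.equivFunOnFinite.symm (b : Fin n → ℕ) = b := Finsupp.ext fun _ => rfl
          rw [e1, if_pos ⟨rfl, rfl⟩, mul_one]
        · intro q _ hq
          rw [if_neg, mul_zero]
          rintro ⟨h2, -⟩
          apply hq
          rw [h2]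
          rfl
        · intro hq
          exact absurd (Fintype.mem_piFinset.mpr fun l => Finset.mem_range.mpr (Nat.lt_succ_iff.mpr (hb l))) hq
      · refine Finset.sum_eq_zero fun q hq => ?_
        rw [if_neg, mul_zero]
        rintro ⟨h2, h3⟩
        apply hec
        have hle : Finsupp.equivFunOnFinite.symm q ≤ e :=
          fun l => Nat.lt_succ_iff.mp (Finset.mem_range.mp (Fintype.mem_piFinset.mp hq l))
        rw [← hbb, h3, h2, add_tsub_cancel_of_le hle]
    rw [Finset.sum_congr rfl (fun e he => by rw [expand, hinner e he])] at h1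
    rw [Finset.sum_eq_single c] at h1
    · rw [if_pos rfl] at h1
      have h2 := (mul_eq_zero.mp h1).resolve_left (mem_support_iff.mp hc)
      exact (CharP.cast_eq_zero_iff K p _).mp h2
    · intro e _ hec
      rw [if_neg hec, mul_zero]
    · intro hc'
      exact absurd hc hc'
  obtain ⟨G, hG⟩ := exists_form p r key
  have h1 := hn _ ha
  rw [hN] at h1
  exact h1 G (by rw [← hG]; exact hr) (by rw [← hG]; exact hr0) (by rw [← hG])

/-- The ideal of a closed subgroup of `G_a ^ n` is generated by additive polynomials. -/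
theorem mem_span_form [Fact p.Prime] [CharP K p] (x : Fin n → A)
    (h0 : ∀ f : MvPolynomial (Fin n) K, aeval x f = 0 → coeff 0 f = 0)
    (hΔ : ∀ f : MvPolynomial (Fin n) K, aeval x f = 0 →
      aeval (fun l => x l ⊗ₜ[K] (1 : A) + (1 : A) ⊗ₜ[K] x l) f = 0)
    (f : MvPolynomial (Fin n) K) (hf : aeval x f = 0) :
    f ∈ Ideal.span {g : MvPolynomial (Fin n) K | aeval x g = 0 ∧ ∃ G, g = form p G} := by
  classical
  let m : MonomialOrder (Fin n) := MonomialOrder.lex
  let B : Set (MvPolynomial (Fin n) K) := {g | (aeval x g = 0 ∧ ∃ G, g = form p G) ∧ g ≠ 0}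
  obtain ⟨g, r, hfr, -, hr⟩ := m.div_set (B := B)
    (fun b hb => (Ne.isUnit (m.leadingCoeff_ne_zero_iff.mpr hb.2))) f
  have hlc : Finsupp.linearCombination _ (fun (b : B) ↦ (b : MvPolynomial (Fin n) K)) g ∈
      Ideal.span {g : MvPolynomial (Fin n) K | aeval x g = 0 ∧ ∃ G, g = form p G} := by
    rw [Finsupp.linearCombination_apply]
    refine Submodule.sum_mem _ fun b _ => ?_
    exact Submodule.smul_mem _ _ (Ideal.subset_span b.2.1)
  have hle : Ideal.span {g : MvPolynomial (Fin n) K | aeval x g = 0 ∧ ∃ G, g = form p G} ≤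
      RingHom.ker (aeval x : MvPolynomial (Fin n) K →ₐ[K] A).toRingHom := by
    rw [Ideal.span_le]
    rintro g ⟨hg, -⟩
    exact hg
  have hr0 : aeval x r = 0 := by
    have h1 : aeval x (Finsupp.linearCombination _ (fun (b : B) ↦ (b : MvPolynomial (Fin n) K)) g) = 0 := hle hlc
    rw [hfr, map_add, h1, zero_add] at hf
    exact hf
  have := eq_zero_of_normal m x h0 hΔ
    (fun c => ∀ G : Fin n → (ℕ →₀ K), aeval x (form p G) = 0 → form p G ≠ 0 → ¬ (m.degree (form p G) ≤ c))
    (fun c => Iff.rfl) r hr0 (fun c hc G hG hG0 => hr c hc (form p G) ⟨⟨hG, G, rfl⟩, hG0⟩)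
  rw [hfr, this, add_zero]
  exact hlc

end Alg

section Sch

open CategoryTheory CategoryTheory.Limits AlgebraicGeometry MonObj MonoidalCategory CartesianMonoidalCategory

/-- Morphisms to an affine scheme from ring maps. -/
theorem exists_hom {T V : Scheme.{u}} [IsAffine V] (ψ : Γ(V, ⊤) ⟶ Γ(T, ⊤)) : ∃ f : T ⟶ V, f.appTop = ψ := by
  refine ⟨T.toSpecΓ ≫ Spec.map ψ ≫ V.isoSpec.inv, ?_⟩
  have h1 : V.isoSpec.inv.appTop = (Scheme.ΓSpecIso Γ(V, ⊤)).inv := by
    have h2 : (V.isoSpec.inv ≫ V.isoSpec.hom).appTop = 𝟙 _ := by rw [Iso.inv_hom_id]; rfl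
    rw [Scheme.Hom.comp_appTop, Scheme.isoSpec_hom, Scheme.toSpecΓ_appTop] at h2
    exact (Iso.hom_comp_eq_id _).1 h2
  rw [Scheme.Hom.comp_appTop, Scheme.Hom.comp_appTop, Scheme.toSpecΓ_appTop, h1]
  rw [Category.assoc, ← Scheme.ΓSpecIso_inv_naturality_assoc, Iso.inv_hom_id, Category.comp_id]

/-- Points of an affine `K`-scheme from `K`-algebra maps. -/
theorem exists_pt {K : Type u} [Field K] {S T : Over (Spec (CommRingCat.of K))} [IsAffine S.left]
    (φ : Γ(S.left, ⊤) →+* Γ(T.left, ⊤)) (hφ : ∀ c, φ (str K S c) = str K T c) :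
    ∃ a : T ⟶ S, ∀ f, ev f a = φ f := by
  obtain ⟨a0, ha0⟩ := exists_hom (V := S.left) (T := T.left) (CommRingCat.ofHom φ)
  have hw : a0 ≫ S.hom = T.hom := by
    apply ext_of_isAffine
    rw [Scheme.Hom.comp_appTop, ha0, ← cancel_epi (Scheme.ΓSpecIso (CommRingCat.of K)).inv]
    ext c
    exact hφ c
  exact ⟨Over.homMk a0 hw, fun f => congr($(ha0).hom f)⟩

theorem exists_system (K : Type u) [Field K] (p : ℕ) [Fact p.Prime] [CharP K p]
    (S : Over (Spec (CommRingCat.of K))) [GrpObj S] [IsCommMonObj S] {n : ℕ} (x : Fin n → Γ(S.left, ⊤))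
    (hx : IsVec K S x) :
    ∃ (m : ℕ) (F : Fin m → Fin n → (ℕ →₀ K)), ∀ (T : Over (Spec (CommRingCat.of K))) (y : Fin n → Γ(T.left, ⊤)),
      (∀ j, addVal p (str K T) F j y = 0) ↔ ∃ a : T ⟶ S, ∀ l, ev (x l) a = y l := by
  classical
  have haff := hx.affine
  let : Algebra K Γ(S.left, ⊤) := (str K S).toAlgebra
  have halg : ∀ c, algebraMap K Γ(S.left, ⊤) c = str K S c := fun _ => rfl
  let φ : MvPolynomial (Fin n) K →ₐ[K] Γ(S.left, ⊤) := MvPolynomial.aeval x
  have hφX : ∀ l, φ (MvPolynomial.X l) = x l := fun l => MvPolynomial.aeval_X _ _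
  have hφC : ∀ c, φ (MvPolynomial.C c) = str K S c := fun c => MvPolynomial.aeval_C _ _
  have hsurj : Function.Surjective φ.toRingHom := by
    have h1 := hx.gen φ.toRingHom.range (fun c => ⟨MvPolynomial.C c, hφC c⟩) (fun l => ⟨MvPolynomial.X l, hφX l⟩)
    exact RingHom.range_eq_top.mp h1
  have hev : ∀ (T : Over (Spec (CommRingCat.of K))) (a : T ⟶ S) (f : MvPolynomial (Fin n) K),
      ev (φ f) a = MvPolynomial.eval₂Hom (str K T) (fun l => ev (x l) a) f := by
    intro T a f
    have h1 : (a.left.appTop.hom).comp φ.toRingHom = MvPolynomial.eval₂Hom (str K T) (fun l => ev (x l) a) := by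
      apply MvPolynomial.ringHom_ext
      · intro c
        rw [MvPolynomial.eval₂Hom_C]
        change ev (φ (MvPolynomial.C c)) a = _
        rw [hφC, ev_str]
      · intro l
        rw [MvPolynomial.eval₂Hom_X']
        change ev (φ (MvPolynomial.X l)) a = _
        rw [hφX]
    exact RingHom.congr_fun h1 f
  have h0 : ∀ f : MvPolynomial (Fin n) K, MvPolynomial.aeval x f = 0 → MvPolynomial.coeff 0 f = 0 := by
    intro f hf
    let T : Over (Spec (CommRingCat.of K)) := Over.mk (𝟙 _)
    have h1 := hev T (1 : T ⟶ S) f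
    rw [show φ f = 0 from hf] at h1
    have h2 : (fun l => ev (x l) (1 : T ⟶ S)) = fun _ => 0 := funext fun l => (hx.add l).one T
    rw [h2] at h1
    have h3 : ev (0 : Γ(S.left, ⊤)) (1 : T ⟶ S) = 0 := map_zero _
    rw [h3] at h1
    have h4 : MvPolynomial.eval₂Hom (str K T) (fun _ => 0) f = str K T (MvPolynomial.coeff 0 f) := by
      rw [MvPolynomial.eval₂Hom_zero'_apply]
      rfl
    rw [h4] at h1
    have h5 : str K T (MvPolynomial.coeff 0 f) =
        (Scheme.ΓSpecIso (CommRingCat.of K)).inv.hom (MvPolynomial.coeff 0 f) := by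
      change ((𝟙 (Spec (CommRingCat.of K)) : _ ⟶ _).appTop).hom _ = _
      rw [Scheme.Hom.id_appTop]
      rfl
    rw [h5] at h1
    have h6 : (Scheme.ΓSpecIso (CommRingCat.of K)).hom.hom
        ((Scheme.ΓSpecIso (CommRingCat.of K)).inv.hom (MvPolynomial.coeff 0 f)) = MvPolynomial.coeff 0 f :=
      congr($((Scheme.ΓSpecIso (CommRingCat.of K)).inv_hom_id).hom (MvPolynomial.coeff 0 f))
    rw [← h6, ← h1, map_zero]
  have hΔ : ∀ f : MvPolynomial (Fin n) K, MvPolynomial.aeval x f = 0 →
      MvPolynomial.aeval (fun l => x l ⊗ₜ[K] (1 : Γ(S.left, ⊤)) + (1 : Γ(S.left, ⊤)) ⊗ₜ[K] x l) f = 0 := by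
    intro f hf
    let D : CommRingCat.{u} := CommRingCat.of (Γ(S.left, ⊤) ⊗[K] Γ(S.left, ⊤))
    let T : Over (Spec (CommRingCat.of K)) :=
      Over.mk (Spec.map (CommRingCat.ofHom (algebraMap K (Γ(S.left, ⊤) ⊗[K] Γ(S.left, ⊤)))))
    let i : (Γ(S.left, ⊤) ⊗[K] Γ(S.left, ⊤)) →+* Γ(T.left, ⊤) := (Scheme.ΓSpecIso D).inv.hom
    have hi : Function.Injective i := by
      intro u v huv
      have h1 : ∀ w, (Scheme.ΓSpecIso D).hom.hom (i w) = w := fun w =>
        congr($((Scheme.ΓSpecIso D).inv_hom_id).hom w)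
      rw [← h1 u, ← h1 v, huv]
    have hstr : ∀ c, str K T c = i (algebraMap K _ c) := by
      intro c
      have h1 := Scheme.ΓSpecIso_inv_naturality
        (CommRingCat.ofHom (algebraMap K (Γ(S.left, ⊤) ⊗[K] Γ(S.left, ⊤))))
      exact congr($(h1).hom c).symm
    obtain ⟨a, ha⟩ := exists_pt (S := S) (T := T)
      (i.comp (Algebra.TensorProduct.includeLeft : Γ(S.left, ⊤) →ₐ[K] Γ(S.left, ⊤) ⊗[K] Γ(S.left, ⊤)).toRingHom)
      (fun c => by
        rw [hstr]
        change i (_ ⊗ₜ _) = _
        rw [← halg]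
        rfl)
    obtain ⟨b, hb⟩ := exists_pt (S := S) (T := T)
      (i.comp (Algebra.TensorProduct.includeRight : Γ(S.left, ⊤) →ₐ[K] Γ(S.left, ⊤) ⊗[K] Γ(S.left, ⊤)).toRingHom)
      (fun c => by
        rw [hstr]
        change i ((Algebra.TensorProduct.includeRight : Γ(S.left, ⊤) →ₐ[K] Γ(S.left, ⊤) ⊗[K] Γ(S.left, ⊤))
          (algebraMap K _ c)) = _
        rw [AlgHom.commutes])
    have h1 := hev T (a * b) f
    rw [show φ f = 0 from hf, show ev (0 : Γ(S.left, ⊤)) (a * b) = 0 from map_zero _] at h1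
    apply hi
    rw [map_zero]
    refine Eq.trans ?_ h1.symm
    have h2 : i.comp (MvPolynomial.aeval (fun l => x l ⊗ₜ[K] (1 : Γ(S.left, ⊤)) + (1 : Γ(S.left, ⊤)) ⊗ₜ[K] x l) :
        MvPolynomial (Fin n) K →ₐ[K] _).toRingHom =
        MvPolynomial.eval₂Hom (str K T) (fun l => ev (x l) (a * b)) := by
      apply MvPolynomial.ringHom_ext
      · intro c
        rw [MvPolynomial.eval₂Hom_C, hstr]
        change i (MvPolynomial.aeval _ (MvPolynomial.C c)) = _
        rw [MvPolynomial.aeval_C]
      · intro l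
        rw [MvPolynomial.eval₂Hom_X', hx.add l, ha, hb]
        change i (MvPolynomial.aeval _ (MvPolynomial.X l)) = _
        rw [MvPolynomial.aeval_X, map_add]
        rfl
    exact RingHom.congr_fun h2 f
  have hfg : (Ideal.span {g : MvPolynomial (Fin n) K | MvPolynomial.aeval x g = 0 ∧ ∃ G, g = form p G}).FG :=
    IsNoetherian.noetherian _
  obtain ⟨s, hs, hs'⟩ := (Submodule.fg_span_iff_fg_span_finset_subset _).mp hfg
  have hG : ∀ g : s, ∃ G, (g : MvPolynomial (Fin n) K) = form p G := fun g => (hs g.2).2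
  choose G hG using hG
  refine ⟨s.card, fun j => G (s.equivFin.symm j), fun T y => ⟨fun h => ?_, ?_⟩⟩
  · let ψ : MvPolynomial (Fin n) K →+* Γ(T.left, ⊤) := MvPolynomial.eval₂Hom (str K T) y
    have hker : ∀ g ∈ RingHom.ker φ.toRingHom, ψ g = 0 := by
      intro g hg
      have h1 : g ∈ Ideal.span {g : MvPolynomial (Fin n) K | MvPolynomial.aeval x g = 0 ∧ ∃ G, g = form p G} :=
        mem_span_form x h0 hΔ g hg
      have h2 : Ideal.span {g : MvPolynomial (Fin n) K | MvPolynomial.aeval x g = 0 ∧ ∃ G, g = form p G} ≤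
          RingHom.ker ψ := by
        change Submodule.span _ _ ≤ _
        rw [hs', Submodule.span_le]
        intro g hg
        have h3 := h (s.equivFin ⟨g, hg⟩)
        rw [← eval₂_form] at h3
        simp only [Equiv.symm_apply_apply] at h3
        rw [← hG] at h3
        exact h3
      exact h2 h1
    let u : Γ(S.left, ⊤) →+* Γ(T.left, ⊤) := (φ.toRingHom).liftOfSurjective hsurj ⟨ψ, hker⟩
    have hu : ∀ g, u (φ g) = ψ g := fun g => RingHom.liftOfRightInverse_comp_apply _ _ _ ⟨ψ, hker⟩ g
    obtain ⟨a, ha⟩ := exists_pt (S := S) (T := T) u (fun c => by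
      rw [← hφC, hu]
      exact MvPolynomial.eval₂Hom_C _ _ _)
    refine ⟨a, fun l => ?_⟩
    rw [ha, ← hφX, hu]
    exact MvPolynomial.eval₂Hom_X' _ _ _
  · rintro ⟨a, ha⟩ j
    have h1 : y = fun l => ev (x l) a := funext fun l => (ha l).symm
    have h2 := (hs (s.equivFin.symm j).2).1
    rw [← eval₂_form, ← hG, h1, ← hev, show φ _ = 0 from h2]
    exact map_zero _

end Sch

end K420.Ker
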